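import Mathlib
import Cfsg.Agent.H19.Ly.E.B
import Cfsg.Agent.H19.Ly.E.C0
import Cfsg.Agent.H19.Ly.E.C1
import Cfsg.Agent.H19.Ly.E.C2
import Cfsg.Agent.H19.Ly.E.C3

set_option autoImplicit false
set_option maxRecDepth 100000
set_option Elab.async false
set_option linter.all false

namespace H19.Ly.E
open H29

theorem eS2t : En f2 tI (((lS2_0 ++ lS2_1) ++ lS2_2) ++ lS2_3) 0 bS2_3 (25 + 0 + 38 + 0) := (((eS2t_0.append eS2t_1).append eS2t_2).append eS2t_3)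
theorem nS2 : (((lS2_0 ++ lS2_1) ++ lS2_2) ++ lS2_3).length = 6048 := by decide +kernel
theorem eS2x : En f2 tX (((lS2_0 ++ lS2_1) ++ lS2_2) ++ lS2_3) 0 bS2_3 (25 + 29 + 2 + 0) := (((eS2x_0.append eS2x_1).append eS2x_2).append eS2x_3)
theorem eS3t : En f3 tI (lS3_0 ++ lS3_1) 0 bS3_1 (103 + 108) := (eS3t_0.append eS3t_1)
theorem nS3 : (lS3_0 ++ lS3_1).length = 2880 := by decide +kernel
theorem eS3x : En f3 tX (lS3_0 ++ lS3_1) 0 bS3_1 (12 + 8) := (eS3x_0.append eS3x_1)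
theorem eS4t : En f4 tI lS4_0 0 bS4_0 (105) := eS4t_0
theorem nS4 : lS4_0.length = 1008 := by decide +kernel
theorem eS4x : En f4 tX lS4_0 0 bS4_0 (2) := eS4x_0
theorem eDt : En fDt (fun _ => false) (lDt_0 ++ lDt_1) 0 bDt_1 (0 + 0) := (eDt_0.append eDt_1)
theorem nDt : (lDt_0 ++ lDt_1).length = 1375 := by decide +kernel
theorem eDx : En fDx (fun _ => false) lDx_0 0 bDx_0 (0) := eDx_0
theorem nDx : lDx_0.length = 200 := by decide +kernel
theorem fixt : {i | i < 19530 ∧ ev (sg N.nets) [20, 20, 20, 20] i = i}.ncard ≤ 66 :=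
  ncard_fix_le (k := 15) N.hn (by norm_num) (by decide +kernel)
theorem fixx : {i | i < 19530 ∧ ev (sg N.nets) [20, 23] i = i}.ncard ≤ 252 :=
  ncard_fix_le (k := 15) N.hn (by norm_num) (by decide +kernel)
theorem cj : IsConj (ev G2.σ [20, 20, 20, 20]) (ev G2.σ [20, 24]) :=
  isConj_of_code G2.C G2.hl G2.hiv [4, 15, 7, 9, 19, 5] (by decide +kernel)

end H19.Ly.E
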