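import Mathlib
import Cfsg.Agent.H19.Ly.R111.B
import Cfsg.Agent.H19.Ly.R111.C0
import Cfsg.Agent.H19.Ly.R111.C1
import Cfsg.Agent.H19.Ly.R111.C2
import Cfsg.Agent.H19.Ly.R111.C3
import Cfsg.Agent.H19.Ly.R111.C4
import Cfsg.Agent.H19.Ly.R111.C5

set_option autoImplicit false
set_option maxRecDepth 100000
set_option Elab.async false
set_option linter.all false

namespace H19.Ly.R111
open H29

/-- The matrices. -/
noncomputable def σ (c : ℕ) : GL (Fin 111) (ZMod 5) := P.gl (Equiv.refl _) (lc c)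
/-- The codes. -/
noncomputable def C : Codes (GL (Fin 111) (ZMod 5)) := Pok.codes (Equiv.refl _) 3
theorem hl : (∀ c, C.Rep (σ c) (lc c)) ∧ IvOK σ (ivOf ivl) :=
  Pok.letters (w := 3) hii (by decide) (lt_step (lt_step (lt_step (lt_step (lt_step (lt_step (lt_step (lt_step (lt_step (lt_step (lt_step (lt_step (lt_step (lt_step (lt_step (lt_step (lt_step (lt_step (lt_step (lt_step (lt_step (lt_step (lt_step (lt_step (lt_step (lt_step (lt_step (lt_step (lt_step (lt_step (lt_step (lt_step (lt_step (lt_step (lt_step (lt_step (lt_step (lt_step (lt_step (lt_step (lt_step (lt_step (lt_step (lt_step (lt_step (lt_step (lt_step (lt_step (lt_step (lt_step (lt_step (lt_step (lt_step (lt_step (lt_step (lt_step (lt_step (lt_step (lt_step (lt_step (lt_step (lt_step (lt_step (lt_step (lt_step (lt_step (lt_step (lt_step (lt_step (lt_step (lt_step (lt_step (lt_step (lt_step (lt_step (lt_step (lt_step (lt_step lt_base l0) l1) l2) l3) l4) l5) l6) l7) l8) l9) l10) l11) l12)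 l13) l14) l15) l16) l17) l18) l19) l20) l21) l22) l23) l24) l25) l26) l27) l28) l29) l30) l31) l32) l33) l34) l35) l36) l37) l38) l39) l40) l41) l42) l43) l44) l45) l46) l47) l48) l49) l50) l51) l52) l53) l54) l55) l56) l57) l58) l59) l60) l61) l62) l63) l64) l65) l66) l67) l68) l69) l70) l71) l72) l73) l74) l75) l76) l77)
def R0 : List (List ℕ) := (((((((((((((((((((G0 ++ G1) ++ G2) ++ G3) ++ G4) ++ G5) ++ G6) ++ G7) ++ G8) ++ G9) ++ G10) ++ G11) ++ G12) ++ G13) ++ G14) ++ G15) ++ G16) ++ G17) ++ G18) ++ G19)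
theorem hR0 : ∀ r ∈ R0, ev σ r = 1 := (rels_append (rels_append (rels_append (rels_append (rels_append (rels_append (rels_append (rels_append (rels_append (rels_append (rels_append (rels_append (rels_append (rels_append (rels_append (rels_append (rels_append (rels_append (rels_append (C.rels hl.1 hl.2 r0) (C.rels hl.1 hl.2 r1)) (C.rels hl.1 hl.2 r2)) (C.rels hl.1 hl.2 r3)) (C.rels hl.1 hl.2 r4)) (C.rels hl.1 hl.2 r5)) (C.rels hl.1 hl.2 r6)) (C.rels hl.1 hl.2 r7)) (C.rels hl.1 hl.2 r8)) (C.rels hl.1 hl.2 r9)) (C.rels hl.1 hl.2 r10)) (C.rels hl.1 hl.2 r11)) (C.rels hl.1 hl.2 r12)) (C.rels hl.1 hl.2 r13)) (C.rels hl.1 hl.2 r14)) (C.rels hl.1 hl.2 r15)) (C.rels hl.1 hl.2 r16)) (C.rels hl.1 hl.2 r17)) (C.rels hl.1 hl.2 r18)) (C.rels hl.1 hl.2 r19))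

end H19.Ly.R111
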