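import Mathlib
import Cfsg.Agent.H19.Ly.DC
import Cfsg.Agent.H19.Ly.R111

/-!
# The representation of the presented Lyons group in dimension 111
-/

set_option autoImplicit false
set_option maxRecDepth 100000

namespace H19.Ly
open H29

theorem exists_ρ : ∃ ρ : P.G →* GL (Fin 111) (ZMod 5), ∀ c < 78, ρ (P.e c) = R111.σ c :=
  PData.exists_hom coh hg R111.hl.2 (relL ▸ rels_sub R111.hR0 (by decide +kernel))

/-- The representation of dimension 111. -/
noncomputable def ρ : P.G →* GL (Fin 111) (ZMod 5) := exists_ρ.choose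

theorem hρ (c : ℕ) : ρ (P.e c) = R111.σ c := by
  by_cases hc : c < 78
  · exact exists_ρ.choose_spec c hc
  · rw [PData.e_eq_one (by change 78 ≤ c; omega), map_one]
    refine R111.C.eq R111.C.rep_one ?_
    have := R111.hl.1 c
    rwa [R111.lc, nth_default _ (by change 78 ≤ c; omega)] at this

theorem ρφ_inj : Function.Injective (ρ.comp G2.φ) := by
  have := G2.simple
  rw [← MonoidHom.ker_eq_bot_iff]
  refine (Subgroup.Normal.eq_bot_or_eq_top inferInstance).resolve_right fun h => ?_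
  have h1 : G2.σ 0 ∈ (ρ.comp G2.φ).ker := h ▸ Subgroup.mem_top _
  rw [MonoidHom.mem_ker, MonoidHom.comp_apply, G2.hφ 0 (by norm_num), hρ] at h1
  exact R111.C.ev_ne R111.hl.1 (u := [0]) (v := []) (by decide +kernel) (by simpa using h1)

theorem φ_inj : Function.Injective G2.φ := Function.Injective.of_comp (f := ρ) ρφ_inj

theorem range_φ : G2.φ.range = gen P.e [0, 2, 4, 6] := by
  rw [range_eq_gen (L := G2.L20) (σ := P.e)
    (fun c hc => G2.hφ c ((by decide +kernel : ∀ c ∈ G2.L20, c < 76) c hc)) G2.top20]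
  refine le_antisymm ?_ (gen_sub (by decide +kernel))
  refine (gen_le_of_defs (l := [(8, 28)]) (L' := [0, 1, 2, 3, 4, 5, 6, 7, 10, 11, 12, 13, 14, 15, 16, 17, 18, 19])
    hiv0 hR (by decide +kernel)).trans ?_
  refine (gen_le_of_defs (l := [(18, 9)]) (L' := [0, 1, 2, 3, 4, 5, 6, 7, 10, 11, 12, 13, 14, 15, 16, 17])
    hiv0 hR (by decide +kernel)).trans ?_
  refine (gen_le_of_defs (l := [(10, 5), (12, 6), (14, 7), (16, 8)]) (L' := [0, 1, 2, 3, 4, 5, 6, 7])
    hiv0 hR (by decide +kernel)).trans ?_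
  exact gen_sub_iv hiv0 (by decide +kernel)

theorem map_abcd : (Subgroup.closure ({Cfsg.Spor.Ly.a, Cfsg.Spor.Ly.b, Cfsg.Spor.Ly.c, Cfsg.Spor.Ly.d} :
    Set (FreeGroup Cfsg.Spor.Ly.Gen))).map (PresentedGroup.mk (Cfsg.Spor.coxRelators Cfsg.Spor.Ly.edges ∪
      {r | r ∈ Cfsg.Spor.Ly.extra})) = G2.φ.range := by
  rw [range_φ]
  exact PData.map_closure coh hg
    (ws := [Cfsg.Spor.Ly.a, Cfsg.Spor.Ly.b, Cfsg.Spor.Ly.c, Cfsg.Spor.Ly.d]) (by simp)
    (W := fun c => [c]) (by simp) (by decide +kernel)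

end H19.Ly
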