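import Mathlib
import Cfsg.Agent.H19.Ly.W.B
import Cfsg.Agent.H19.Ly.R111
import Cfsg.Agent.H19.Ly.W.C0
import Cfsg.Agent.H19.Ly.W.C1
import Cfsg.Agent.H19.Ly.W.C2
import Cfsg.Agent.H19.Ly.W.C3
import Cfsg.Agent.H19.Ly.W.C4

set_option autoImplicit false
set_option maxRecDepth 100000
set_option Elab.async false
set_option linter.all false

namespace H19.Ly.W
open H29

theorem hA : ∀ k, R111.C.Rep (wE R111.σ wA k) (nth R111.C.one xA k) :=
  R111.C.rep_wE' R111.hl.1 (n := 10) (by decide) (lt_step (lt_step (lt_step (lt_step (lt_step (lt_step (lt_step (lt_step (lt_step (lt_step lt_base wA0) wA1) wA2) wA3) wA4) wA5) wA6) wA7) wA8) wA9)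
def EA : List (List ℕ × List ℕ) := ((((EA0 ++ EA1) ++ EA2) ++ EA3) ++ EA4)
theorem hEA : ∀ p ∈ EA, ev (wE R111.σ wA) p.1 = ev (wE R111.σ wA) p.2 :=
  (eqs_append (eqs_append (eqs_append (eqs_append (R111.C.eqs hA eA0) (R111.C.eqs hA eA1)) (R111.C.eqs hA eA2)) (R111.C.eqs hA eA3)) (R111.C.eqs hA eA4))
theorem hM : ∀ k, R111.C.Rep (wE R111.σ wM k) (nth R111.C.one xM k) :=
  R111.C.rep_wE' R111.hl.1 (n := 7) (by decide) (lt_step (lt_step (lt_step (lt_step (lt_step (lt_step (lt_step lt_base wM0) wM1) wM2) wM3) wM4) wM5) wM6)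
def EM : List (List ℕ × List ℕ) := ((((((EM0 ++ EM1) ++ EM2) ++ EM3) ++ EM4) ++ EM5) ++ EM6)
theorem hEM : ∀ p ∈ EM, ev (wE R111.σ wM) p.1 = ev (wE R111.σ wM) p.2 :=
  (eqs_append (eqs_append (eqs_append (eqs_append (eqs_append (eqs_append (R111.C.eqs hM eM0) (R111.C.eqs hM eM1)) (R111.C.eqs hM eM2)) (R111.C.eqs hM eM3)) (R111.C.eqs hM eM4)) (R111.C.eqs hM eM5)) (R111.C.eqs hM eM6))
theorem p37 : ev R111.σ [70, 35, 77] ^ 37 = 1 ∧ ev R111.σ [70, 35, 77] ≠ 1 := R111.C.pow_eq_one R111.hl.1 (by norm_num) q37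
theorem p67 : ev R111.σ [69, 43, 77] ^ 67 = 1 ∧ ev R111.σ [69, 43, 77] ≠ 1 := R111.C.pow_eq_one R111.hl.1 (by norm_num) q67
theorem neA0 : wE R111.σ wA 0 ≠ 1 := by
  simpa using R111.C.ev_ne hA (u := [0]) (v := []) (by decide +kernel)
theorem neA9 : wE R111.σ wA 9 ≠ 1 := by
  simpa using R111.C.ev_ne hA (u := [9]) (v := []) (by decide +kernel)
theorem neM0 : wE R111.σ wM 0 ≠ 1 := by
  simpa using R111.C.ev_ne hM (u := [0]) (v := []) (by decide +kernel)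
theorem neM6 : wE R111.σ wM 6 ≠ 1 := by
  simpa using R111.C.ev_ne hM (u := [6]) (v := []) (by decide +kernel)

end H19.Ly.W
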