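import Mathlib
import Cfsg.Agent.H19.Ly.Rho
import Cfsg.Agent.H19.Ly.W
import Cfsg.Agent.H19.Cov

/-!
# The order and the simplicity of the presented Lyons group
-/

set_option autoImplicit false
set_option maxRecDepth 100000

namespace H19

open H29 Subgroup

namespace Ly

theorem σ_mem (c : ℕ) : R111.σ c ∈ ρ.range := ⟨_, hρ c⟩

instance instFinRange : Finite ρ.range := Finite.of_surjective _ ρ.rangeRestrict_surjective

set_option synthInstance.maxSize 1000 in
theorem chkA : (∀ i < 9, ([i, i, i], []) ∈ W.EA ∧ ([i, 9], [9, i]) ∈ W.EA ∧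
    ∀ j < i, ([j, i, j, i], [9]) ∈ W.EA) ∧ ([9, 9], []) ∈ W.EA := by decide +kernel

set_option synthInstance.maxSize 1000 in
theorem chkM : (∀ c ∈ McT1.cols, ([c, c], []) ∈ W.EM ∧ ([c, 6], [6, c]) ∈ W.EM) ∧ ([6, 6, 6], []) ∈ W.EM ∧
    (allL McT1.R0 fun r => memLL r
      (W.EM.map fun p => strip 6 p.1 ++ invW (ivOf McT1.ivl) (strip 6 p.2))) = true := by
  decide +kernel

theorem dvd_range : 51765179004000000 ∣ Nat.card ρ.range := by
  have h1 : 39916800 ∣ Nat.card ρ.range := by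
    have hX : gen (wE R111.σ W.wA) (9 :: List.range 9) ≤ ρ.range :=
      gen_le.2 fun c _ => wE_mem σ_mem _ c
    have := Finite.of_injective _ (inclusion_injective hX)
    rw [← (a11_sub rfl W.hEA chkA W.neA9 W.neA0 rfl).2.2.1]
    exact card_dvd_of_le hX
  have h2 : 3 * 898128000 ∣ Nat.card ρ.range := by
    have hX : gen (wE R111.σ W.wM) (6 :: McT1.cols) ≤ ρ.range :=
      gen_le.2 fun c _ => wE_mem σ_mem _ c
    rw [← (mcl_sub rfl W.hEM chkM W.neM6 W.neM0 rfl).2.2.2.1]
    exact card_dvd_of_le hX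
  have h3 : 5859000000 ∣ Nat.card ρ.range := by
    rw [← G2.card, Nat.card_congr (MonoidHom.ofInjective ρφ_inj).toEquiv]
    exact card_dvd_of_le (by rintro _ ⟨x, rfl⟩; exact ⟨_, rfl⟩)
  have h4 : ∀ (p : ℕ) [Fact p.Prime] (w : List ℕ), ev R111.σ w ^ p = 1 ∧ ev R111.σ w ≠ 1 →
      p ∣ Nat.card ρ.range := fun p _ w h => by
    rw [← orderOf_eq_prime h.1 h.2]
    exact Subgroup.orderOf_dvd_natCard _ (ev_mem fun c _ => σ_mem c)
  have := Fact.mk (by norm_num : Nat.Prime 37)
  have := Fact.mk (by norm_num : Nat.Prime 67)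
  have := Nat.lcm_dvd (Nat.lcm_dvd (Nat.lcm_dvd (Nat.lcm_dvd h1 h2) h3) (h4 _ _ W.p37)) (h4 _ _ W.p67)
  exact Dvd.dvd.trans (by norm_num) this

theorem card_and_inj : Nat.card P.G = 51765179004000000 ∧ Function.Injective ρ := by
  have h1 := Nat.le_of_dvd Nat.card_pos dvd_range
  have h2 := Nat.card_le_card_of_surjective _ ρ.rangeRestrict_surjective
  have h3 := DC.card_le
  have h4 := (ρ.rangeRestrict_surjective.bijective_of_nat_card_le (h3.trans h1)).1
  exact ⟨by omega, fun a b e => h4 (Subtype.ext e)⟩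

theorem card : Nat.card P.G = 51765179004000000 := card_and_inj.1

theorem ρ_inj : Function.Injective ρ := card_and_inj.2

theorem hx : (∑ i, DC.nn i) * Nat.card G2.K ≤ Nat.card P.G := by rw [DC.sum_nn, G2.card, card]

theorem index : G2.φ.range.index = 8835156 := (DC.dcs.index_eq hx).trans DC.sum_nn

theorem core : (DC.SS 1).normalCore = ⊥ := by
  have := G2.simple
  refine (Normal.eq_bot_or_eq_top inferInstance).resolve_right fun h => ?_
  have h1 := DC.dcs.nst_index hx 1
  rw [DC.dcs.nst_eq hx, show DC.SS 1 = ⊤ from top_unique (h ▸ (DC.SS 1).normalCore_le),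
    index_top] at h1
  exact absurd h1 (by decide)

theorem simple : IsSimpleGroup P.G := by
  have : Nontrivial P.G := Finite.one_lt_card_iff_nontrivial.1 (by rw [card]; norm_num)
  refine ⟨fun M hM => (DC.dcs.normal_cases hx (i0 := 0) (DD.rep_zero _ _ _) core (by decide +kernel) M).imp
    id fun h => ?_⟩
  have h1 : ev P.e [69, 43, 77] ∈ M :=
    mem_of_pow_eq_one (q := 67) (m := 772614612000000) (by rw [card])
      (Dvd.dvd.trans (by decide) h) (by norm_num)
      (ρ_inj (by rw [map_pow, map_ev, funext hρ, W.p67.1, map_one]))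
  have h2 : ev G2.σ [69, 43] ^ 21 = 1 :=
    (G2.C.pow_eq_one G2.hl (by norm_num) (by decide +kernel)).1
  have h3 : ev G2.σ [28] ^ 4 = 1 ∧ ev G2.σ [28] ≠ 1 :=
    G2.C.pow_eq_one G2.hl (by norm_num) (by decide +kernel)
  have h4 : DC.z ∈ M := by
    refine mem_of_coprime h1 (m := 8) (n := 21) ?_ ?_ (by norm_num)
    · rw [show 8 = 2 * 4 from rfl, pow_mul, pow_two, DC.hu, ← map_ev, ← map_pow, h3.1, map_one]
    · have : ev P.e [69, 43, 77] * DC.z = G2.φ (ev G2.σ [69, 43]) := by
        simp [G2.hφ 69 (by norm_num), G2.hφ 43 (by norm_num), show P.e 77 = DC.z⁻¹ from hiv0 76,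
          mul_assoc]
      rw [this, ← map_pow, h2, map_one]
  have h5 : M.comap G2.φ = ⊤ := by
    have := G2.simple
    refine (Normal.eq_bot_or_eq_top inferInstance).resolve_left fun h => h3.2 ?_
    rw [← mem_bot, ← h, mem_comap, map_ev, ← DC.hu]
    exact mul_mem h4 h4
  rw [eq_top_iff, ← range_sup_eq_top hiv0 DC.top78 G2.hφ (zl := 76) (by decide +kernel), sup_le_iff,
    closure_le, Set.singleton_subset_iff]
  refine ⟨?_, h4⟩
  rintro _ ⟨x, rfl⟩
  exact (h5 ▸ mem_top x : x ∈ M.comap G2.φ)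

end Ly

end H19
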