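import Mathlib
import Cfsg.Agent.H19.Ly.Ord
import Cfsg.Agent.H19.Ly.E

/-!
# Two centralisers in the presented Lyons group
-/

set_option autoImplicit false
set_option maxRecDepth 100000

namespace H19.Ly

open H29 Subgroup

theorem SS1 : DC.SS 1 = gen G2.σ N.dl :=
  le_antisymm (genW_le_gen (ws := DC.l1.gw) (by decide +kernel))
    (gen_le_genW (ws := DC.l1.gw) G2.hiv (by decide +kernel))

theorem cardS (i : Fin 5) {s : ℕ} (h : DC.nn i * s = 5859000000) : Nat.card (DC.SS i) = s := by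
  have := DC.dcs.card_S hx i
  rw [G2.card, ← h] at this
  exact Nat.eq_of_mul_eq_mul_left
    (Nat.pos_of_ne_zero fun e => by rw [e, zero_mul] at h; exact absurd h (by norm_num)) this

theorem cent_le {w : List ℕ} (hw : ∀ c ∈ w, c ∈ G2.L26) {m c f1 f2 f3 f4 m2 m3 m4 : ℕ}
    (h0 : m ≤ {s | s ∈ gen G2.σ N.dl ∧ IsConj (ev G2.σ w) s}.ncard)
    (h1 : {i | i < 19530 ∧ ev (sg N.nets) w i = i}.ncard ≤ f1)
    (h2 : {s | s ∈ DC.SS 2 ∧ IsConj (ev G2.σ w) s}.ncard ≤ m2)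
    (h3 : {s | s ∈ DC.SS 3 ∧ IsConj (ev G2.σ w) s}.ncard ≤ m3)
    (h4 : {s | s ∈ DC.SS 4 ∧ IsConj (ev G2.σ w) s}.ncard ≤ m4)
    (hn : f1 * 300000 ≤ c * m ∧ 0 < m ∧ c * m2 ≤ f2 * 6048 ∧ c * m3 ≤ f3 * 2880 ∧ c * m4 ≤ f4 * 1008) :
    Nat.card (centralizer ({ev P.e w} : Set P.G)) ≤ (1 + f1 + f2 + f3 + f4) * c := by
  rw [← map_ev_sg fun c hc => N.hρ c (hw c hc)] at h1
  have hc := cent_le_of_model N.cm h0 h1 (d := 300000) (by rw [G2.card]) hn.1 hn.2.1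
  have := DC.dcs.card_cent_le hx (ev G2.σ w) (f := ![1, f1, f2, f3, f4]) (by
    rw [Fin.forall_fin_succ, Fin.forall_fin_succ, Fin.forall_fin_succ, Fin.forall_fin_succ,
      Fin.forall_fin_one]
    refine ⟨?_, ?_, ?_, ?_, ?_⟩
    · rw [DC.SS0]; exact (card_cent_mul_top _).le
    · change _ * Set.ncard {s | s ∈ DC.SS 1 ∧ _} ≤ f1 * Nat.card (DC.SS 1)
      rw [SS1, cosetModel_cent N.cm]
      exact Nat.mul_le_mul_right _ h1
    · exact (Nat.mul_le_mul hc h2).trans (hn.2.2.1.trans (by rw [← cardS 2 (s := 6048) rfl]; rfl))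
    · exact (Nat.mul_le_mul hc h3).trans (hn.2.2.2.1.trans (by rw [← cardS 3 (s := 2880) rfl]; rfl))
    · exact (Nat.mul_le_mul hc h4).trans (hn.2.2.2.2.trans (by rw [← cardS 4 (s := 1008) rfl]; rfl)))
  rw [map_ev, ev_congr fun c hc => G2.hφ c ((by decide +kernel : ∀ c ∈ G2.L26, c < 76) c (hw c hc)),
    Fin.sum_univ_five] at this
  exact this.trans (Nat.mul_le_mul_left _ hc)

theorem tK : ev G2.σ [20, 20, 20, 20] ≠ 1 ∧ ev G2.σ [20, 20, 20, 20] * ev G2.σ [20, 20, 20, 20] = 1 := by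
  have := G2.C.pow_eq_one G2.hl (w := [20, 20, 20, 20]) (n := 2) (by norm_num) (by decide +kernel)
  exact ⟨this.2, by rw [← pow_two, this.1]⟩

theorem xK : ev G2.σ [20, 23] ^ 3 = 1 :=
  (G2.C.pow_eq_one G2.hl (w := [20, 23]) (n := 3) (by norm_num) (by decide +kernel)).1

theorem tTr_sub {P : PM} (h : P.OK) {I : Type} [Fintype I] [DecidableEq I] {ε : I ≃ Fin P.n} {w : ℕ}
    {S : Subgroup (GL I (ZMod P.p))} {t g : S} {k y x : ℕ} (hk : k < 2 ^ 8)
    (h1 : ((h.codes ε w).comap S.subtype S.subtype_injective).Rep t y) (h2 : t ^ k = 1) (h3 : IsConj t g)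
    (h4 : ((h.codes ε w).comap S.subtype S.subtype_injective).Rep g x) : tTr P k (P.tr y) x = true :=
  tTr_of_conj h hk h1 (congrArg Subtype.val h2) (S.subtype.map_isConj h3) h4

theorem tX0 {t g : G2.K} {y x : ℕ} (h1 : G2.C.Rep t y) (h2 : t ^ 3 = 1) (h : IsConj t g)
    (hx : G2.C.Rep g x) : tTr G2.P 3 (G2.P.tr y) x = true :=
  tTr_sub (w := 3) (ε := G2.ε) G2.Pok (by norm_num) h1 h2 h hx

theorem tX (g : G2.K) (x : ℕ) (h : IsConj (ev G2.σ [20, 23]) g) (hx : G2.C.Rep g x) :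
    E.tX x = true := by
  unfold E.tX
  exact tX0 (G2.C.rep_evC G2.hl [20, 23]) xK h hx

theorem cent_t_le : Nat.card (centralizer ({ev P.e [20, 20, 20, 20]} : Set P.G)) ≤ 39916800 :=
  cent_le (m := 1375) (c := 14400) (f1 := 66) (f2 := 150) (f3 := 1055) (f4 := 1500) (by decide +kernel)
    (E.nDt ▸ le_ncard_conj G2.C G2.hl G2.hiv (by
      simp only [List.forall_mem_cons]
      exact ⟨⟨by decide, IsConj.refl _⟩, ⟨by decide, E.cj⟩, by simp⟩) E.eDt) E.fixt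
    (ncard_le_of_en G2.C E.hy2 (fun _ => wE_mem (wE_mem_genW _ _) _ _) E.eS2t
      (by rw [E.nS2]; exact (cardS 2 rfl).le) (tInv_of_conj G2.C tK.1 tK.2))
    (ncard_le_of_en G2.C E.hy3 (fun _ => wE_mem (wE_mem_genW _ _) _ _) E.eS3t
      (by rw [E.nS3]; exact (cardS 3 rfl).le) (tInv_of_conj G2.C tK.1 tK.2))
    (ncard_le_of_en G2.C E.hy4 (fun _ => wE_mem (wE_mem_genW _ _) _ _) E.eS4t
      (by rw [E.nS4]; exact (cardS 4 rfl).le) (tInv_of_conj G2.C tK.1 tK.2)) (by norm_num)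

theorem cent_x_le : Nat.card (centralizer ({ev P.e [20, 23]} : Set P.G)) ≤ 3 * 898128000 :=
  cent_le (m := 200) (c := 378000) (f1 := 252) (f2 := 3500) (f3 := 2625) (f4 := 750) (by decide +kernel)
    (E.nDx ▸ le_ncard_conj G2.C G2.hl G2.hiv (by
      simp only [List.forall_mem_cons]
      exact ⟨⟨by decide, IsConj.refl _⟩, by simp⟩) E.eDx) E.fixx
    (ncard_le_of_en G2.C E.hy2 (fun _ => wE_mem (wE_mem_genW _ _) _ _) E.eS2x
      (by rw [E.nS2]; exact (cardS 2 rfl).le) tX)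
    (ncard_le_of_en G2.C E.hy3 (fun _ => wE_mem (wE_mem_genW _ _) _ _) E.eS3x
      (by rw [E.nS3]; exact (cardS 3 rfl).le) tX)
    (ncard_le_of_en G2.C E.hy4 (fun _ => wE_mem (wE_mem_genW _ _) _ _) E.eS4x
      (by rw [E.nS4]; exact (cardS 4 rfl).le) tX) (by norm_num)

theorem ρ_wE (ws : List (List ℕ)) (c : ℕ) : ρ (wE P.e ws c) = wE R111.σ ws c := by
  rw [map_wE_eq, funext hρ]

theorem ne_one {ws : List (List ℕ)} {c : ℕ} (h : wE R111.σ ws c ≠ 1) : wE P.e ws c ≠ 1 := fun e =>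
  h (by rw [← ρ_wE, e, map_one])

/-- The involution `u²` has the centraliser `2.A₁₁`, generated by the words `W.wA`. -/
theorem cent_t : orderOf (ev P.e [28, 28]) = 2 ∧
    centralizer {ev P.e [28, 28]} = gen (wE P.e W.wA) (9 :: List.range 9) ∧
    Cfsg.IsNonsplitDoubleCover (centralizer ({ev P.e [28, 28]} : Set P.G)) (alternatingGroup (Fin 11)) := by
  obtain ⟨a1, a2, a3, a4⟩ := a11_sub rfl (eqs_of_injective ρ_inj (ρ_wE _) W.hEA) chkA (ne_one W.neA9)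
    (ne_one W.neA0) rfl
  have e : ev P.e [20, 20, 20, 20] = ev P.e [28, 28] := by
    have := congrArg G2.φ (G2.C.ev_eq G2.hl (u := [20, 20, 20, 20]) (v := [28, 28]) (by decide +kernel))
    simpa [G2.hφ 20 (by norm_num), G2.hφ 28 (by norm_num)] using this
  have h := (Subgroup.eq_of_le_of_card_ge a4 (by
    rw [a3]; exact (show Nat.card (centralizer ({ev P.e [28, 28]} : Set P.G)) ≤ _ from e ▸ cent_t_le))).symm
  exact ⟨a1, h, (show centralizer {ev P.e [28, 28]} = _ from h) ▸ a2⟩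

/-- The element `a₁ a₂⁻¹` has the centraliser `3.McL`, generated by the words `W.wM`. -/
theorem cent_x : orderOf (ev P.e [20, 23]) = 3 ∧
    centralizer {ev P.e [20, 23]} = gen (wE P.e W.wM) (6 :: McT1.cols) ∧
    Nat.card (center (centralizer ({ev P.e [20, 23]} : Set P.G))) = 3 ∧
    Cfsg.IsMcL (centralizer ({ev P.e [20, 23]} : Set P.G) ⧸
      center (centralizer ({ev P.e [20, 23]} : Set P.G))) := by
  obtain ⟨a1, -, -, a3, a4⟩ := mcl_sub rfl (eqs_of_injective ρ_inj (ρ_wE _) W.hEM) chkM (ne_one W.neM6)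
    (ne_one W.neM0) rfl
  have h := (Subgroup.eq_of_le_of_card_ge a4 (by rw [a3]; exact cent_x_le)).symm
  obtain ⟨-, b1, b2, -⟩ := mcl_sub rfl (eqs_of_injective ρ_inj (ρ_wE _) W.hEM) chkM (ne_one W.neM6)
    (ne_one W.neM0) h
  exact ⟨a1, h, b1, b2⟩

end H19.Ly
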