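import Mathlib
import Cfsg.Agent.H19.Ly.N.B
import Cfsg.Agent.H19.Ly.N.I0

set_option autoImplicit false
set_option maxRecDepth 100000
set_option Elab.async false
set_option linter.all false

namespace H19.Ly.N
open H29

theorem hiv : IvOK (sg nets) (ivOf Ly.ivl) :=
  ivOK_of_chk (k := 15) hn (by decide) (n := 78) (by decide) (by decide) (lt_step (lt_step (lt_step (lt_step (lt_step (lt_step (lt_step (lt_step (lt_step (lt_step (lt_step (lt_step (lt_step (lt_step (lt_step lt_base iv0) iv1) iv2) iv3) iv4) iv5) iv6) iv7) iv8) iv9) iv10) iv11) iv12) iv13) iv14)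
theorem hG0 : ∀ r ∈ G0, ev (sg nets) r = 1 :=
  rels_of_chk (k := 15) hn (by decide) hiv (lt_step (lt_step (lt_step (lt_step (lt_step (lt_step (lt_step (lt_step (lt_step (lt_step (lt_step (lt_step (lt_step (lt_step (lt_step lt_base r0_0) r0_1) r0_2) r0_3) r0_4) r0_5) r0_6) r0_7) r0_8) r0_9) r0_10) r0_11) r0_12) r0_13) r0_14)
theorem hR : ∀ r ∈ G2.R47, ev (sg nets) r = 1 := rels_sub (R := G0) hG0 (by decide +kernel)

theorem exists_ρ : ∃ ρ : G2.K →* Equiv.Perm ℕ, ∀ c ∈ G2.L26, ρ (G2.σ c) = sg nets c :=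
  hom_of_tr (tr_of_bd (R := G2.R47) (n := 5859000000)
    (fun _ _ _ h1 h2 => (G2.bd20 h1 h2).of_le (G2.gen26 h1 h2)) G2.hiv hiv
    (by decide +kernel) (rels_sub G2.hR (by decide +kernel)) hR
    (by rw [G2.top26, Subgroup.card_top, G2.card])) G2.hiv hiv (by decide +kernel) G2.top26
/-- The action on 19530 points. -/
noncomputable def ρ : G2.K →* Equiv.Perm ℕ := exists_ρ.choose
theorem hρ : ∀ c ∈ G2.L26, ρ (G2.σ c) = sg nets c := exists_ρ.choose_spec
def dl : List ℕ := [10, 11, 12, 13, 14, 15, 16, 17, 18, 19, 20, 21, 22, 23, 24, 25]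
theorem ch : chkChain 19530 15 nets [(2, 2, 3125, [20, 22, 24]), (8, 4, 96, [])] [10, 12, 14, 16, 18, 20, 22, 24] = true := by
  decide +kernel
theorem cardD : 300000 ≤ Nat.card (gen G2.σ dl) :=
  (le_card_of_chain hn _ _ (fun c hc => hρ c ((by decide +kernel : ∀ c ∈ [10, 12, 14, 16, 18, 20, 22, 24], c ∈ G2.L26) c hc)) ch).trans
    (Subgroup.card_le_of_le (gen_sub (by decide +kernel)))
theorem reach : Reach nets G2.L26 (bit 0) (ones 19530) := fun i hi => by
  obtain ⟨w, hw, h⟩ := reach_of_chk (S := bit 0) (V := ones 19530) (L := [0, 1, 2, 3, 4, 5, 6, 7]) (r := 5) hn (by decide +kernel) i hi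
  exact ⟨w, fun c hc => (by decide +kernel : ∀ c ∈ [0, 1, 2, 3, 4, 5, 6, 7], c ∈ G2.L26) c (hw c hc), h⟩
theorem cm : CosetModel ρ (gen G2.σ dl) 19530 :=
  cosetModel_of_card hn hρ G2.top26 (by norm_num) (by decide +kernel) reach
    (gen_le.2 fun c hc => by
      rw [mem_stab, hρ c ((by decide +kernel : ∀ c ∈ dl, c ∈ G2.L26) c hc)]
      exact fix_zero_of_chk (L := dl) hn (by decide +kernel) c hc)
    (by rw [G2.card]; exact le_trans (by norm_num) (Nat.mul_le_mul_left _ cardD))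

end H19.Ly.N
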