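import Mathlib
import Cfsg.Agent.H29.Pres
import Cfsg.Prelude.Def_Spor_Ly

set_option autoImplicit false
set_option maxRecDepth 100000
set_option Elab.async false
set_option linter.all false

namespace H19.Ly
open H29

def idx : Cfsg.Spor.Ly.Gen → ℕ
  | .a => 0
  | .b => 2
  | .c => 4
  | .d => 6
  | .e => 8
  | .c1 => 10
  | .c2 => 12
  | .c3 => 14
  | .c4 => 16
  | .c5 => 18
  | .a1 => 20
  | .a2 => 22
  | .a3 => 24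
  | .a4 => 26
  | .u => 28
  | .x23 => 30
  | .x24 => 32
  | .x25 => 34
  | .x29 => 36
  | .x47 => 38
  | .x96 => 40
  | .x129 => 42
  | .x162 => 44
  | .x163 => 46
  | .x164 => 48
  | .x165 => 50
  | .x166 => 52
  | .x167 => 54
  | .x168 => 56
  | .x169 => 58
  | .x364 => 60
  | .x365 => 62
  | .x366 => 64
  | .x367 => 66
  | .x368 => 68
  | .x369 => 70
  | .x370 => 72
  | .x371 => 74
  | .z => 76
def ivl : List ℕ := [1, 0, 3, 2, 5, 4, 7, 6, 9, 8, 11, 10, 13, 12, 15, 14, 17, 16, 19, 18, 21, 20, 23, 22, 25, 24, 27, 26, 29, 28, 31, 30, 33, 32, 35, 34, 37, 36, 39, 38, 41, 40, 43, 42, 45, 44, 47, 46, 49, 48, 51, 50, 53, 52, 55, 54, 57, 56, 59, 58, 61, 60, 63, 62, 65, 64, 67, 66, 69, 68, 71, 70, 73, 72, 75, 74, 77, 76]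
def P : PData Cfsg.Spor.Ly.Gen := ⟨Cfsg.Spor.Ly.edges, Cfsg.Spor.Ly.extra, [.a, .b, .c, .d, .e, .c1, .c2, .c3, .c4, .c5, .a1, .a2, .a3, .a4, .u, .x23, .x24, .x25, .x29, .x47, .x96, .x129, .x162, .x163, .x164, .x165, .x166, .x167, .x168, .x169, .x364, .x365, .x366, .x367, .x368, .x369, .x370, .x371, .z],
  [(.a, true), (.a, false), (.b, true), (.b, false), (.c, true), (.c, false), (.d, true), (.d, false), (.e, true), (.e, false), (.c1, true), (.c1, false), (.c2, true), (.c2, false), (.c3, true), (.c3, false), (.c4, true), (.c4, false), (.c5, true), (.c5, false), (.a1, true), (.a1, false), (.a2, true), (.a2, false), (.a3, true), (.a3, false), (.a4, true), (.a4, false), (.u, true), (.u, false), (.x23, true), (.x23, false), (.x24, true), (.x24, false), (.x25, true), (.x25, false), (.x29, true), (.x29, false), (.x47, true), (.x47,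 false), (.x96, true), (.x96, false), (.x129, true), (.x129, false), (.x162, true), (.x162, false), (.x163, true), (.x163, false), (.x164, true), (.x164, false), (.x165, true), (.x165, false), (.x166, true), (.x166, false), (.x167, true), (.x167, false), (.x168, true), (.x168, false), (.x169, true), (.x169, false), (.x364, true), (.x364, false), (.x365, true), (.x365, false), (.x366, true), (.x366, false), (.x367, true), (.x367, false), (.x368, true), (.x368, false), (.x369, true), (.x369, false), (.x370, true), (.x370, false), (.x371, true), (.x371, false), (.z, true), (.z, false)], idx, ivl⟩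
theorem coh : P.Coh := by decide +kernel
theorem hg : ∀ x, x ∈ P.gens := by intro x; cases x <;> decide
theorem hiv0 : IvOK P.e (ivOf ivl) := PData.ivOK coh
theorem hii : ∀ c, ivOf ivl (ivOf ivl c) = c := ivOf_ivOf (by decide +kernel)
def R : List (List ℕ) := [[0, 0, 0, 0, 0, 0, 0, 0],
 [2, 2, 2, 2, 2],
 [0, 2, 0, 2, 0, 2, 0, 2],
 [1, 1, 3, 0, 0, 2],
 [1, 3, 0, 2, 1, 3, 0, 2, 1, 3, 0, 2],
 [10, 5],
 [12, 1, 5, 0],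
 [14, 3, 5, 2],
 [16, 2, 5, 3],
 [18, 13, 11, 12, 10],
 [10, 10, 10, 10, 10],
 [18, 18, 18, 18, 18],
 [11, 19, 10, 18],
 [13, 19, 12, 18],
 [15, 19, 14, 18],
 [17, 19, 16, 18],
 [11, 15, 10, 14, 18, 18],
 [11, 17, 10, 16, 19, 19],
 [13, 15, 12, 14, 18],
 [13, 17, 12, 16],
 [15, 17, 14, 16, 18],
 [1, 12, 0, 10, 10],
 [1, 14, 0, 17, 11, 14, 14],
 [1, 16, 0, 17, 11, 17, 14, 12, 11],
 [1, 18, 0, 19, 19],
 [3, 12, 2, 16, 10, 16, 15, 13],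
 [3, 14, 2, 14, 14, 17, 11, 11],
 [3, 18, 2, 19],
 [8, 7, 11, 7, 2, 1, 3, 11, 7, 1, 11, 0, 11, 1, 10, 0, 2, 2],
 [8, 8],
 [9, 10, 8, 10, 3, 15, 3],
 [9, 14, 8, 0, 16, 10, 13, 1, 3, 3],
 [9, 16, 8, 17, 14, 3, 3],
 [9, 18, 8, 16, 11, 14, 11],
 [8, 0, 0, 8, 16, 19, 11, 1, 2, 1, 3, 3, 1],
 [9, 2, 8, 16, 16, 14, 11],
 [8, 0, 2, 2, 0, 3, 0, 8, 16, 19, 11, 1, 1],
 [8, 12, 8, 13, 8, 12, 17, 0, 14, 0, 0, 0],
 [6, 9, 3, 12, 1, 9, 1, 9, 1, 18, 16, 10, 2, 0, 3, 3, 1],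
 [6, 6, 1, 1, 1, 1],
 [3, 7, 2, 6],
 [7, 0, 6, 1, 1, 1],
 [6, 18, 6, 18, 6, 18, 6, 18, 6, 18],
 [6, 18, 6, 19, 6, 18, 1, 1],
 [20, 1],
 [22, 2, 1, 3],
 [24, 2, 2, 1, 3, 3],
 [26, 3, 3, 1, 2, 2],
 [28, 1, 1],
 [30, 7],
 [32, 6],
 [34, 3, 5, 0, 3, 3, 4, 7, 4, 0, 5, 1, 4, 3, 3, 0, 2, 0, 3, 3],
 [36, 5, 3, 5, 7, 2, 2, 5, 7, 2, 5, 3, 5, 1, 4, 3, 3, 0, 3, 3, 0, 3, 1],
 [38, 6, 4, 3, 0, 4, 0, 6, 4],
 [40, 7, 3],
 [42, 2, 6],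
 [44, 1, 3, 4, 1, 2, 4, 3, 0, 2, 0],
 [46, 3, 5, 3, 0, 5, 1, 2, 2],
 [48, 1, 3, 1, 5, 0, 2, 0],
 [50, 3, 1, 2, 5, 3, 0, 2],
 [52, 4, 2, 2, 5, 1, 3, 5, 2, 0, 3, 3],
 [54, 0, 0, 0],
 [56, 0, 0, 2, 0, 3],
 [58, 0, 2, 2, 1, 3, 3, 1],
 [60, 2, 1, 3, 1, 2, 1, 4, 0, 2, 4, 3, 6, 4, 3, 0, 4, 2, 7, 0],
 [62, 6, 2, 5, 0, 5, 1, 5, 7, 4, 4, 0, 3, 4, 3, 5, 0, 2, 2, 1],
 [64, 5, 3, 5, 7, 2, 2, 5, 7, 3, 5, 3, 3, 5, 2, 0, 2, 2, 0, 2, 1, 3],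
 [66, 2, 0, 3, 1, 3, 3, 1, 3, 4, 2, 2, 4, 2, 6, 4, 3, 3, 6, 4, 2, 4],
 [68, 2, 2, 0, 2, 4, 2, 2, 5, 1, 4, 0, 6, 4, 1, 2, 4, 1, 6, 4, 0],
 [70, 2, 1, 2, 2, 1, 2, 4, 2, 0, 3, 6, 4, 2, 0, 3, 6, 4, 0],
 [72, 0, 3, 0, 2, 2, 0, 5, 0, 2, 1, 6, 4, 0, 5, 3, 5, 1, 6],
 [74, 3, 0, 2, 0, 2, 5, 1, 5, 0, 5, 6, 4, 3, 5, 0, 4],
 [77, 10, 76, 45],
 [77, 12, 76, 47],
 [77, 14, 76, 49],
 [77, 16, 76, 51],
 [77, 18, 76, 53],
 [77, 20, 76, 55],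
 [77, 22, 76, 57],
 [77, 24, 76, 59],
 [76, 76, 29],
 [26, 76, 26, 76, 26, 76, 28],
 [38, 76, 60, 76, 68, 76],
 [77, 32, 77, 70, 76, 30, 76, 36],
 [76, 64, 76, 62, 77, 66, 77, 72],
 [76, 40, 76, 34, 77, 42, 77, 74]]
theorem relL : P.relL = R := by decide +kernel
theorem hR : ∀ r ∈ R, ev P.e r = 1 := relL ▸ PData.rels coh hg

end H19.Ly
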